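import Mathlib
import Groth.Agent.Hensel.Factor

/-! Fitting decomposition of an endomorphism of a finite module over a henselian local ring. -/

set_option autoImplicit false

namespace Groth.Agent.MLHensel

universe u

open Polynomial

theorem exists_idem_artinian {B : Type u} [CommRing B] [IsArtinianRing B] (a : B) :
    ∃ e : B, IsIdempotentElem e ∧ IsUnit (a * e + (1 - e)) ∧ IsNilpotent (a * (1 - e)) := by
  obtain ⟨n, x, hx⟩ := IsArtinian.exists_pow_succ_smul_dvd a (1 : B)
  simp only [smul_eq_mul, mul_one] at hx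
  have hk : ∀ k, a ^ n = a ^ (n + k) * x ^ k := by
    intro k
    induction k with
    | zero => simp
    | succ k ih =>
      calc a ^ n = a ^ (n + k) * x ^ k := ih
        _ = a ^ k * a ^ n * x ^ k := by rw [pow_add]; ring
        _ = a ^ k * (a ^ (n + 1) * x) * x ^ k := by rw [hx]
        _ = a ^ (n + (k + 1)) * x ^ (k + 1) := by ring
  have hk' := hk (n + 1)
  refine ⟨a ^ (n + 1) * x ^ (n + 1), ?_, ?_, n + 1, ?_⟩
  · show _ * _ = _
    linear_combination (-(a * x ^ (n + 1))) * hk'
  · refine IsUnit.of_mul_eq_one (a ^ n * x ^ (n + 1) * (a ^ (n + 1) * x ^ (n + 1)) +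
      (1 - a ^ (n + 1) * x ^ (n + 1))) ?_
    have he : (a ^ (n + 1) * x ^ (n + 1)) * (a ^ (n + 1) * x ^ (n + 1)) = a ^ (n + 1) * x ^ (n + 1) := by
      linear_combination (-(a * x ^ (n + 1))) * hk'
    linear_combination (a ^ (n + 1) * x ^ (n + 1) + 2 - a - a ^ n * x ^ (n + 1)) * he
  · have h0 : a ^ (n + 1) * (1 - a ^ (n + 1) * x ^ (n + 1)) = 0 := by
      linear_combination a * hk'
    rw [mul_pow]
    calc a ^ (n + 1) * (1 - a ^ (n + 1) * x ^ (n + 1)) ^ (n + 1)
        = a ^ (n + 1) * (1 - a ^ (n + 1) * x ^ (n + 1)) * (1 - a ^ (n + 1) * x ^ (n + 1)) ^ n := by ring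
      _ = 0 := by rw [h0, zero_mul]

/-- An endomorphism is invertible on a direct summand containing all its fixed vectors. -/
theorem exists_fitting (R : Type u) [CommRing R] [HenselianLocalRing R] {Q : Type u} [AddCommGroup Q]
    [Module R Q] [Module.Finite R Q] (ψ : Module.End R Q) :
    ∃ e w : Module.End R Q, e * e = e ∧ w * ψ = e ∧ e * w = w ∧ ∀ q, ψ q = q → e q = q := by
  classical
  obtain ⟨p, hp, hpψ⟩ := Algebra.IsIntegral.isIntegral (R := R) ψ
  change aeval ψ p = 0 at hpψ
  let A := AdjoinRoot p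
  haveI : Module.Finite R A := hp.finite_adjoinRoot
  let φ : A →ₐ[R] Module.End R Q := Ideal.Quotient.liftₐ (Ideal.span {p}) (aeval ψ) (fun x hx => by
    obtain ⟨y, rfl⟩ := Ideal.mem_span_singleton'.mp hx
    rw [map_mul, hpψ, mul_zero])
  let a : A := AdjoinRoot.root p
  have hφa : φ a = ψ := aeval_X ψ
  let m := IsLocalRing.maximalIdeal R
  let J : Ideal A := m.map (algebraMap R A)
  have hJ : ∀ M : Ideal A, M.IsMaximal → J ≤ M := fun M hM => by
    haveI := hM
    haveI := Ideal.isMaximal_comap_of_isIntegral_of_isMaximal (R := R) M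
    exact Ideal.map_le_iff_le_comap.mpr (IsLocalRing.eq_maximalIdeal this).ge
  have hunit : ∀ z : A, IsUnit (Ideal.Quotient.mk J z) → IsUnit z := fun z hz => by
    by_contra h
    obtain ⟨M, hM, hzM⟩ := exists_max_ideal_of_mem_nonunits (show z ∈ nonunits A from h)
    have h1 := Ideal.eq_top_of_isUnit_mem _ (Ideal.mem_map_of_mem (Ideal.Quotient.mk J) hzM) hz
    have h2 : M = ⊤ := by
      have := congrArg (Ideal.comap (Ideal.Quotient.mk J)) h1
      rwa [Ideal.comap_map_of_surjective _ Ideal.Quotient.mk_surjective, Ideal.comap_top, ← RingHom.ker_eq_comap_bot,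
        Ideal.mk_ker, sup_eq_left.mpr (hJ M hM)] at this
    exact hM.ne_top h2
  letI : Field (R ⧸ m) := Ideal.Quotient.field m
  haveI : Module.Finite (R ⧸ m) (A ⧸ J) := Module.Finite.of_restrictScalars_finite R (R ⧸ m) (A ⧸ J)
  haveI : IsArtinianRing (A ⧸ J) := IsArtinianRing.of_finite (R ⧸ m) (A ⧸ J)
  obtain ⟨e₀, he₀, hu₀, hn₀⟩ := exists_idem_artinian (Ideal.Quotient.mk J a)
  obtain ⟨b, rfl⟩ := Ideal.Quotient.mk_surjective e₀
  have hbb : b * b - b ∈ J := by
    rw [← Ideal.Quotient.eq_zero_iff_mem, map_sub, map_mul, he₀.eq, sub_self]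
  obtain ⟨e, he, heb⟩ := Hensel.exists_idempotent_lift_of_finite m b hbb
  rw [← Ideal.Quotient.eq_zero_iff_mem, map_sub, sub_eq_zero] at heb
  change Ideal.Quotient.mk J e = Ideal.Quotient.mk J b at heb
  obtain ⟨v, hv⟩ := hunit (a * e + (1 - e)) (by rw [map_add, map_mul, map_sub, map_one, heb]; exact hu₀)
  have h1e : IsUnit (1 - a * (1 - e)) := hunit _ (by
    rw [map_sub, map_one, map_mul, map_sub, map_one, heb]; exact hn₀.isUnit_one_sub)
  obtain ⟨v', hv'⟩ := h1e
  let w : A := (↑v⁻¹ : A) * e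
  have hwa : w * a = e := by
    have h2 : (↑v⁻¹ : A) * (a * e + (1 - e)) * e = e := by rw [← hv, Units.inv_mul, one_mul]
    have h3 : (a * e + (1 - e)) * e = a * e := by linear_combination (a - 1) * he.eq
    calc w * a = (↑v⁻¹ : A) * ((a * e + (1 - e)) * e) := by rw [h3]; ring
      _ = e := by rw [← mul_assoc, h2]
  refine ⟨φ e, φ w, by rw [← map_mul, he.eq], by rw [← hφa, ← map_mul, hwa], ?_, fun q hq => ?_⟩
  · rw [← map_mul]
    congr 1
    show e * ((↑v⁻¹ : A) * e) = _
    linear_combination (↑v⁻¹ : A) * he.eq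
  · have h4 : φ ((1 - a * (1 - e)) * (1 - e)) q = 0 := by
      have : (1 - a * (1 - e)) * (1 - e) = (1 - e) * (1 - a) := by linear_combination (-a) * he.eq
      rw [this, map_mul, Module.End.mul_apply, show φ (1 - a) q = 0 by simp [hφa, hq], map_zero]
    have h5 : φ (1 - e) q = 0 := by
      have h6 : φ ((↑v'⁻¹ : A) * ((1 - a * (1 - e)) * (1 - e))) q = 0 := by
        rw [map_mul, Module.End.mul_apply, h4, map_zero]
      rwa [← hv', ← mul_assoc, Units.inv_mul, one_mul] at h6
    rw [map_sub, map_one, LinearMap.sub_apply, Module.End.one_apply, sub_eq_zero] at h5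
    exact h5.symm

end Groth.Agent.MLHensel
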