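import Mathlib
import Groth.Agent.MLHensel.Split
import Groth.Agent.S6361

/-! Countably generated Mittag-Leffler modules over henselian local rings. -/

set_option autoImplicit false

namespace Groth.Agent.MLHensel

universe u

theorem finitePresentation_of_retract {R : Type u} [CommRing R] {K Q : Type u} [AddCommGroup K] [Module R K]
    [AddCommGroup Q] [Module R Q] [Module.FinitePresentation R Q] (i : K →ₗ[R] Q) (r : Q →ₗ[R] K)
    (h : r ∘ₗ i = LinearMap.id) : Module.FinitePresentation R K := by
  have h1 : ∀ y, r (i y) = y := LinearMap.congr_fun h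
  refine Module.finitePresentation_of_surjective r (fun y => ⟨i y, h1 y⟩) ?_
  rw [show LinearMap.ker r = LinearMap.range (LinearMap.id - i ∘ₗ r) from ?_]
  · rw [← Submodule.map_top]
    exact Module.Finite.fg_top.map _
  · ext y
    constructor
    · intro hy
      exact ⟨y, by simp [LinearMap.mem_ker.mp hy]⟩
    · rintro ⟨z, rfl⟩
      simp [h1]

variable {R : Type u} [CommRing R] [HenselianLocalRing R] {M : Type u} [AddCommGroup M] [Module R M]

theorem exists_step (hML : CAlg.IsMittagLeffler R M) (hc : CAlg.IsCountablyGenerated R M)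
    (p : Module.End R M) (hp : p * p = p) (x : M) :
    ∃ π : Module.End R M, π * π = π ∧ p * π = π ∧ π * p = π ∧ π (p x) = p x ∧
      Module.FinitePresentation R (LinearMap.range π) := by
  obtain ⟨Q, _, _, _, b, c, hbc⟩ := Groth.Agent.S6361.result R M hML hc (LinearMap.toSpanSingleton R M (p x))
  have hx : c (b (p x)) = p x := by simpa using LinearMap.congr_fun hbc 1
  have hp' : ∀ y, p (p y) = p y := LinearMap.congr_fun hp
  let b' : M →ₗ[R] Q := b ∘ₗ p
  let c' : Q →ₗ[R] M := p ∘ₗ c
  obtain ⟨e, w, he, hw, hew, hfix⟩ := exists_fitting R (b' ∘ₗ c' : Module.End R Q)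
  let π : Module.End R M := c' ∘ₗ w ∘ₗ b'
  have hwψ : ∀ q, w (b' (c' q)) = e q := LinearMap.congr_fun hw
  have hew' : ∀ q, e (w q) = w q := LinearMap.congr_fun hew
  have hππ : ∀ y, π (π y) = π y := fun y => by
    show c' (w (b' (c' (w (b' y))))) = c' (w (b' y))
    rw [hwψ, hew']
  have hq : b' (c' (b (p x))) = b (p x) := by simp [b', c', hx, hp']
  have hπx : π (p x) = p x := by
    show c' (w (b' (p x))) = p x
    have h1 : b' (p x) = b (p x) := by simp [b', hp']
    rw [h1]
    nth_rewrite 1 [← hq]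
    rw [hwψ, hfix _ hq]
    simp [c', hx, hp']
  refine ⟨π, LinearMap.ext hππ, LinearMap.ext fun y => hp' _, LinearMap.ext fun y => ?_, hπx, ?_⟩
  · show c' (w (b (p (p y)))) = c' (w (b (p y)))
    rw [hp']
  · refine finitePresentation_of_retract (w ∘ₗ b' ∘ₗ (LinearMap.range π).subtype)
      ((π ∘ₗ c').codRestrict (LinearMap.range π) fun q => LinearMap.mem_range_self π (c' q)) ?_
    refine LinearMap.ext fun ⟨z, hz⟩ => Subtype.ext ?_
    obtain ⟨y, rfl⟩ := hz
    show π (π (π y)) = π y
    rw [hππ, hππ]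

theorem exists_decomposition (hML : CAlg.IsMittagLeffler R M) (hc : CAlg.IsCountablyGenerated R M) :
    ∃ N : ℕ → Submodule R M, DirectSum.IsInternal N ∧ ∀ k, Module.FinitePresentation R (N k) := by
  classical
  obtain ⟨s, hs, hspan⟩ := id hc
  obtain ⟨g, hg⟩ : ∃ g : ℕ → M, s ⊆ Set.range g := by
    rcases s.eq_empty_or_nonempty with rfl | hne
    · exact ⟨fun _ => 0, Set.empty_subset _⟩
    · obtain ⟨g, hg⟩ := hs.exists_eq_range hne
      exact ⟨g, hg.le⟩
  let S := {p : Module.End R M // p * p = p}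
  choose st hst using fun (p : S) (x : M) => exists_step hML hc p.1 p.2 x
  let nxt : ℕ → S → S := fun k p => ⟨p.1 - st p (g k), by
    obtain ⟨h1, h2, h3, -⟩ := hst p (g k)
    rw [mul_sub, sub_mul, sub_mul, p.2, h2, h3, h1, sub_self, sub_zero]⟩
  let P : ℕ → S := fun k => Nat.rec ⟨1, one_mul 1⟩ nxt k
  let π : ℕ → Module.End R M := fun k => st (P k) (g k)
  have hsucc : ∀ k, (P (k + 1)).1 = (P k).1 - π k := fun k => rfl
  have hP : ∀ k l, k ≤ l → (P k).1 * (P l).1 = (P l).1 ∧ (P l).1 * (P k).1 = (P l).1 := by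
    intro k l hkl
    induction l, hkl using Nat.le_induction with
    | base => exact ⟨(P k).2, (P k).2⟩
    | succ l _ ih =>
      obtain ⟨-, h2, h3, -⟩ := hst (P l) (g l)
      have e1 : (P k).1 * π l = π l := by
        calc (P k).1 * π l = (P k).1 * ((P l).1 * π l) := by rw [h2]
          _ = (P l).1 * π l := by rw [← mul_assoc, ih.1]
          _ = π l := h2
      have e2 : π l * (P k).1 = π l := by
        calc π l * (P k).1 = π l * (P l).1 * (P k).1 := by rw [h3]
          _ = π l * (P l).1 := by rw [mul_assoc, ih.2]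
          _ = π l := h3
      rw [hsucc, mul_sub, sub_mul, ih.1, ih.2, e1, e2]
      exact ⟨rfl, rfl⟩
  have horth : ∀ k l, k ≠ l → π k * π l = 0 := by
    intro k l hne
    obtain ⟨a1, a2, a3, -⟩ := hst (P k) (g k)
    obtain ⟨b1, b2, b3, -⟩ := hst (P l) (g l)
    rcases Nat.lt_or_gt_of_ne hne with h | h
    · have h0 : π k * (P (k + 1)).1 = 0 := by rw [hsucc, mul_sub, a3, a1, sub_self]
      calc π k * π l = π k * ((P (k + 1)).1 * (P l).1 * π l) := by rw [(hP _ _ h).1, b2]
        _ = 0 := by rw [← mul_assoc, ← mul_assoc, h0, zero_mul, zero_mul]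
    · have h0 : (P (l + 1)).1 * π l = 0 := by rw [hsucc, sub_mul, b2, b1, sub_self]
      calc π k * π l = π k * (P k).1 * (P (l + 1)).1 * π l := by
            rw [mul_assoc (π k), (hP _ _ h).2, a3]
        _ = 0 := by rw [mul_assoc, h0, mul_zero]
  refine ⟨fun k => LinearMap.range (π k), ?_, fun k => (hst (P k) (g k)).2.2.2.2⟩
  rw [DirectSum.isInternal_submodule_iff_iSupIndep_and_iSup_eq_top]
  constructor
  · intro k
    rw [Submodule.disjoint_def]
    intro x hx hx'
    obtain ⟨y, rfl⟩ := hx
    have hle : (⨆ (l) (_ : l ≠ k), LinearMap.range (π l)) ≤ LinearMap.ker (π k) :=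
      iSup₂_le fun l hl => by
        rintro _ ⟨z, rfl⟩
        exact LinearMap.congr_fun (horth k l hl.symm) z
    have h1 := LinearMap.congr_fun (hst (P k) (g k)).1 y
    exact h1.symm.trans (hle hx')
  · rw [eq_top_iff, ← hspan, Submodule.span_le]
    intro x hx
    obtain ⟨k, rfl⟩ := hg hx
    have h : ∀ j, g k - (P j).1 (g k) ∈ ⨆ l, LinearMap.range (π l) := by
      intro j
      induction j with
      | zero => simp [P]
      | succ j ih =>
        rw [hsucc, LinearMap.sub_apply]
        have := add_mem ih (Submodule.mem_iSup_of_mem j (LinearMap.mem_range_self (π j) (g k)))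
        convert this using 1
        abel
    have h0 : (P (k + 1)).1 (g k) = 0 := by
      obtain ⟨h1, h2, h3, h4, -⟩ := hst (P k) (g k)
      have h5 := LinearMap.congr_fun h3 (g k)
      rw [Module.End.mul_apply, h4] at h5
      rw [hsucc, LinearMap.sub_apply, h5]
      exact sub_self _
    have := h (k + 1)
    rwa [h0, sub_zero] at this

end Groth.Agent.MLHensel
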